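import Mathlib.AlgebraicGeometry.Morphisms.SchemeTheoreticallyDominant
import Mathlib.AlgebraicGeometry.Morphisms.Etale
import Mathlib.AlgebraicGeometry.Morphisms.FlatMono
import Mathlib.RingTheory.Unramified.LocalStructure
/-!
A flat unramified morphism which is locally of finite presentation over a schematically dense
quasi-compact open of the base is locally of finite presentation.
-/

set_option autoImplicit false
set_option backward.isDefEq.respectTransparency false
set_option linter.style.haveILetI false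

universe u

open CategoryTheory CategoryTheory.Limits AlgebraicGeometry TopologicalSpace

namespace Groth.Agent.SchDenseFlatLib

theorem exists_specializes_of_mem_closure_basicOpen {R : Type u} [CommRing R] {g : R} {x : PrimeSpectrum R}
    (hx : x ∈ closure (PrimeSpectrum.basicOpen g : Set (PrimeSpectrum R))) :
    ∃ w, w ∈ PrimeSpectrum.basicOpen g ∧ w ⤳ x := by
  by_contra hne
  push Not at hne
  have hn : IsNilpotent (algebraMap R (Localization.AtPrime x.asIdeal) g) := by
    rw [← mem_nilradical, nilradical_eq_sInf, Ideal.mem_sInf]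
    rintro J (hJ : J.IsPrime)
    by_contra hg
    refine hne ⟨J.comap (algebraMap R _), inferInstance⟩ hg ((PrimeSpectrum.le_iff_specializes _ _).1 fun r hr => ?_)
    by_contra hrx
    exact hJ.ne_top (Ideal.eq_top_of_isUnit_mem _ hr
      (IsLocalization.map_units (Localization.AtPrime x.asIdeal) (⟨r, hrx⟩ : x.asIdeal.primeCompl)))
  obtain ⟨n, hn⟩ := hn
  rw [← map_pow, IsLocalization.map_eq_zero_iff x.asIdeal.primeCompl] at hn
  obtain ⟨⟨f, hf⟩, hfn⟩ := hn
  obtain ⟨w, hwf, hwg⟩ := mem_closure_iff.1 hx _ (PrimeSpectrum.basicOpen f).2 hf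
  exact (w.isPrime.mem_or_mem (show f * g ^ n ∈ w.asIdeal from hfn ▸ w.asIdeal.zero_mem)).elim hwf
    fun h => hwg (w.isPrime.mem_of_pow_mem n h)

theorem exists_specializes_of_mem_closure {R : CommRingCat.{u}} {W : Set ↥(Spec R)} (hW : IsOpen W)
    (hWc : IsCompact W) {x : ↥(Spec R)} (hx : x ∈ closure W) : ∃ w ∈ W, w ⤳ x := by
  obtain ⟨b, e⟩ := hWc.elim_finite_subcover
    (fun g : {g : R // (PrimeSpectrum.basicOpen g : Set (PrimeSpectrum R)) ⊆ W} =>
      (PrimeSpectrum.basicOpen g.1 : Set (PrimeSpectrum R)))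
    (fun g => (PrimeSpectrum.basicOpen g.1).2)
    (fun w hw => by
      obtain ⟨_, ⟨g, rfl⟩, hwg, hg⟩ :=
        (PrimeSpectrum.isTopologicalBasis_basic_opens (R := R)).isOpen_iff.1 hW w hw
      exact Set.mem_iUnion.2 ⟨⟨g, hg⟩, hwg⟩)
  have hx' : x ∈ closure (⋃ g ∈ b, (PrimeSpectrum.basicOpen g.1 : Set (PrimeSpectrum R))) := closure_mono e hx
  rw [Finset.closure_biUnion] at hx'
  obtain ⟨g, -, hg⟩ := Set.mem_iUnion₂.1 hx'
  obtain ⟨w, hw, hwx⟩ := exists_specializes_of_mem_closure_basicOpen hg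
  exact ⟨w, g.2 hw, hwx⟩

theorem isOpenImmersion_of_flat_closed_aux {Z : Scheme.{u}} {R : CommRingCat.{u}} (i : Z ⟶ Spec R)
    [IsClosedImmersion i] [Flat i] (V : (Spec R).Opens) [QuasiCompact V.ι] [IsSchemeTheoreticallyDominant V.ι]
    (hV : LocallyOfFinitePresentation (i ∣_ V)) : IsOpenImmersion i := by
  haveI := hV
  haveI : Flat (i ∣_ V) := IsZariskiLocalAtTarget.restrict (P := @Flat) ‹_› V
  haveI : IsClosedImmersion (i ∣_ V) := IsZariskiLocalAtTarget.restrict (P := @IsClosedImmersion) ‹_› V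
  haveI := IsOpenImmersion.of_flat_of_mono (i ∣_ V)
  have hrange : Set.range i ∩ (V : Set ↥(Spec R)) = Set.range ((i ∣_ V) ≫ V.ι) := by
    rw [morphismRestrict_ι]
    ext z
    constructor
    · rintro ⟨⟨y, rfl⟩, hy⟩
      exact ⟨⟨y, hy⟩, rfl⟩
    · rintro ⟨y, rfl⟩
      exact ⟨⟨_, rfl⟩, y.2⟩
  have ho : IsOpen (Set.range i ∩ (V : Set ↥(Spec R))) := by
    rw [hrange]
    exact ((i ∣_ V) ≫ V.ι).isOpenEmbedding.isOpen_range
  let W : Set ↥(Spec R) := (V : Set ↥(Spec R)) ∩ (Set.range i)ᶜ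
  have hVc : IsCompact (V : Set ↥(Spec R)) := by
    haveI : CompactSpace ↥V.toScheme := (quasiCompact_iff_compactSpace V.ι).1 inferInstance
    exact isCompact_iff_compactSpace.2 this
  have hWc : IsCompact W := by
    convert hVc.diff ho using 1
    ext z
    exact ⟨fun h => ⟨h.1, fun h' => h.2 h'.1⟩, fun h => ⟨h.1, fun h' => h.2 ⟨h', h.1⟩⟩⟩
  have hWo : IsOpen W := V.2.inter i.isClosedEmbedding.isClosed_range.isOpen_compl
  have hdisj : ∀ z, i z ∉ closure W := fun z hz => by
    obtain ⟨w, hw, hwz⟩ := exists_specializes_of_mem_closure hWo hWc hz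
    obtain ⟨z', -, rfl⟩ := Flat.generalizingMap i hwz
    exact hw.2 ⟨z', rfl⟩
  let N : (Spec R).Opens := ⟨(closure W)ᶜ, isClosed_closure.isOpen_compl⟩
  haveI : IsSchemeTheoreticallyDominant (V.ι) := ‹_›
  let V' : N.toScheme.Opens := N.ι ⁻¹ᵁ V
  haveI : QuasiCompact V'.ι :=
    MorphismProperty.of_isPullback (P := @QuasiCompact) (isPullback_morphismRestrict N.ι V) inferInstance
  haveI : IsSchemeTheoreticallyDominant V'.ι :=
    IsSchemeTheoreticallyDominant.of_isPullback (isPullback_morphismRestrict N.ι V)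
  haveI : Flat (i ∣_ N) := IsZariskiLocalAtTarget.restrict (P := @Flat) ‹_› N
  haveI : IsClosedImmersion (i ∣_ N) := IsZariskiLocalAtTarget.restrict (P := @IsClosedImmersion) ‹_› N
  have hc : Set.range ((N.ι ∣_ V) ≫ V.ι) ⊆ Set.range i := by
    rw [morphismRestrict_ι]
    rintro _ ⟨y, rfl⟩
    by_contra hne
    exact y.1.2 (subset_closure ⟨y.2, hne⟩)
  have hc' : Set.range (N.ι ∣_ V) ⊆ Set.range (i ∣_ V) := by
    rintro _ ⟨y, rfl⟩
    obtain ⟨z, hz⟩ := hc ⟨y, rfl⟩
    exact ⟨⟨z, by rw [Scheme.Hom.mem_preimage, hz]; exact ((N.ι ∣_ V) y).2⟩, Subtype.ext ((morphismRestrict_base_coe i V _).trans hz)⟩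
  let l := IsOpenImmersion.lift (i ∣_ V) (N.ι ∣_ V) hc'
  have hl : V'.ι ≫ N.ι = (l ≫ (i ⁻¹ᵁ V).ι) ≫ i := by
    rw [Category.assoc, ← morphismRestrict_ι i V, IsOpenImmersion.lift_fac_assoc, morphismRestrict_ι]
  let l' := (isPullback_morphismRestrict i N).lift V'.ι (l ≫ (i ⁻¹ᵁ V).ι) hl
  have hl' : l' ≫ (i ∣_ N) = V'.ι := (isPullback_morphismRestrict i N).lift_fst _ _ hl
  have hker : (i ∣_ N).ker = ⊥ := by
    refine le_bot_iff.1 (le_trans (Scheme.Hom.le_ker_comp l' (i ∣_ N)) ?_)
    rw [hl', V'.ι.ker_eq_bot]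
  haveI : IsIso (i ∣_ N) := IsClosedImmersion.isIso_iff_ker_eq_bot.2 hker
  have hiN : i ⁻¹ᵁ N = ⊤ := top_le_iff.1 fun z _ => hdisj z
  haveI : IsIso (i ⁻¹ᵁ N).ι := hiN ▸ (inferInstanceAs (IsIso Z.topIso.hom))
  rw [show i = inv (i ⁻¹ᵁ N).ι ≫ (i ∣_ N) ≫ N.ι by rw [morphismRestrict_ι, IsIso.inv_hom_id_assoc]]
  infer_instance

theorem isOpenImmersion_of_flat_closed {Z E : Scheme.{u}} (i : Z ⟶ E)
    [IsClosedImmersion i] [Flat i] (V : E.Opens) [QuasiCompact V.ι] [IsSchemeTheoreticallyDominant V.ι]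
    (hV : LocallyOfFinitePresentation (i ∣_ V)) : IsOpenImmersion i := by
  refine (IsZariskiLocalAtTarget.iff_of_openCover (P := @IsOpenImmersion) E.affineCover).2 fun k => ?_
  let o := E.affineCover.f k
  haveI : QuasiCompact (o ⁻¹ᵁ V).ι :=
    MorphismProperty.of_isPullback (P := @QuasiCompact) (isPullback_morphismRestrict o V) inferInstance
  haveI : IsSchemeTheoreticallyDominant (o ⁻¹ᵁ V).ι :=
    IsSchemeTheoreticallyDominant.of_isPullback (isPullback_morphismRestrict o V)
  show IsOpenImmersion (pullback.snd i o)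
  refine isOpenImmersion_of_flat_closed_aux (pullback.snd i o) (o ⁻¹ᵁ V) ?_
  haveI := hV
  have h := (isPullback_morphismRestrict (pullback.snd i o) (o ⁻¹ᵁ V)).flip.paste_horiz
    (IsPullback.of_hasPullback i o)
  rw [← morphismRestrict_ι o V] at h
  exact MorphismProperty.of_isPullback (P := @LocallyOfFinitePresentation)
    (IsPullback.of_right' h (isPullback_morphismRestrict i V).flip) hV

instance : MorphismProperty.IsMultiplicative @LocallyOfFinitePresentation where
  id_mem X := inferInstance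

instance : MorphismProperty.HasOfPostcompProperty @Flat @Etale :=
  MorphismProperty.hasOfPostcompProperty_iff_le_diagonal.mpr fun _ _ f (_ : Etale f) =>
    inferInstanceAs (Flat (pullback.diagonal f))

instance : MorphismProperty.HasOfPostcompProperty @LocallyOfFinitePresentation @Etale :=
  MorphismProperty.hasOfPostcompProperty_iff_le_diagonal.mpr fun _ _ f (_ : Etale f) =>
    inferInstanceAs (LocallyOfFinitePresentation (pullback.diagonal f))

theorem lfp_of_factor {D U E T : Scheme.{u}} (j : D ⟶ U) [IsOpenImmersion j] (h : U ⟶ T) [Flat h]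
    (c : D ⟶ E) [IsClosedImmersion c] (e : E ⟶ T) [Etale e] (w : j ≫ h = c ≫ e)
    (W : T.Opens) [QuasiCompact W.ι] [IsSchemeTheoreticallyDominant W.ι]
    (hW : LocallyOfFinitePresentation (h ∣_ W)) : LocallyOfFinitePresentation (j ≫ h) := by
  haveI := hW
  haveI : Flat c := MorphismProperty.of_postcomp (W := @Flat) (W' := @Etale) c e ‹_› (by rw [← w]; infer_instance)
  haveI : QuasiCompact (e ⁻¹ᵁ W).ι :=
    MorphismProperty.of_isPullback (P := @QuasiCompact) (isPullback_morphismRestrict e W) inferInstance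
  haveI : IsSchemeTheoreticallyDominant (e ⁻¹ᵁ W).ι :=
    IsSchemeTheoreticallyDominant.of_isPullback (isPullback_morphismRestrict e W)
  haveI hjW : LocallyOfFinitePresentation ((j ≫ h) ∣_ W) := by
    rw [morphismRestrict_comp]
    haveI : IsOpenImmersion (j ∣_ (h ⁻¹ᵁ W)) := IsZariskiLocalAtTarget.restrict (P := @IsOpenImmersion) ‹_› _
    infer_instance
  rw [w, morphismRestrict_comp] at hjW
  haveI : Etale (e ∣_ W) := IsZariskiLocalAtTarget.restrict (P := @Etale) ‹_› W
  haveI : IsOpenImmersion c := isOpenImmersion_of_flat_closed c (e ⁻¹ᵁ W)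
    (MorphismProperty.of_postcomp (W := @LocallyOfFinitePresentation) (W' := @Etale) _ (e ∣_ W) ‹_› hjW)
  rw [w]
  infer_instance

theorem lfp_of_flat_unramified {U T : Scheme.{u}} (h : U ⟶ T) [Flat h] [LocallyOfFiniteType h]
    [FormallyUnramified h] (W : T.Opens) [QuasiCompact W.ι] [IsSchemeTheoreticallyDominant W.ι]
    (hW : LocallyOfFinitePresentation (h ∣_ W)) : LocallyOfFinitePresentation h := by
  have H : ∀ x : U, ∃ (D : Scheme.{u}) (j : D ⟶ U) (_ : IsOpenImmersion j), x ∈ Set.range j ∧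
      LocallyOfFinitePresentation (j ≫ h) := fun x => by
    obtain ⟨A, hA, hxA, -⟩ := exists_isAffineOpen_mem_and_subset (x := h x) (U := (⊤ : T.Opens)) trivial
    obtain ⟨B, hB, hxB, hBA⟩ := exists_isAffineOpen_mem_and_subset (x := x) (U := h ⁻¹ᵁ A) hxA
    algebraize [(h.appLE A B hBA).hom]
    haveI : Algebra.FormallyUnramified Γ(T, A) Γ(U, B) :=
      RingHom.formallyUnramified_algebraMap.mp (h.formallyUnramified_appLE hA hB hBA)
    haveI : Algebra.FiniteType Γ(T, A) Γ(U, B) :=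
      RingHom.finiteType_algebraMap.mp (HasRingHomProperty.appLE (P := @LocallyOfFiniteType) h ‹_› ⟨A, hA⟩ ⟨B, hB⟩ hBA)
    let q := hB.primeIdealOf ⟨x, hxB⟩
    obtain ⟨g, hg, P, φ, hφ⟩ := Algebra.IsUnramifiedAt.exists_hasStandardEtaleSurjectionOn (R := Γ(T, A)) q.asIdeal
    let m : Spec (CommRingCat.of (Localization.Away g)) ⟶ Spec Γ(U, B) :=
      Spec.map (CommRingCat.ofHom (algebraMap Γ(U, B) (Localization.Away g)))
    haveI : IsOpenImmersion m := IsOpenImmersion.of_isLocalization g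
    let c : Spec (CommRingCat.of (Localization.Away g)) ⟶ Spec (CommRingCat.of P.Ring) :=
      Spec.map (CommRingCat.ofHom φ.toRingHom)
    haveI : IsClosedImmersion c := IsClosedImmersion.spec_of_surjective _ hφ
    let e : Spec (CommRingCat.of P.Ring) ⟶ T :=
      Spec.map (CommRingCat.ofHom (algebraMap Γ(T, A) P.Ring)) ≫ hA.fromSpec
    haveI : Etale (Spec.map (CommRingCat.ofHom (algebraMap Γ(T, A) P.Ring))) :=
      HasRingHomProperty.Spec_iff.2 (RingHom.etale_algebraMap.2 inferInstance)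
    refine ⟨_, m ≫ hB.fromSpec, inferInstance, ?_, lfp_of_factor (m ≫ hB.fromSpec) h c e ?_ W hW⟩
    · obtain ⟨z, hz⟩ : q ∈ Set.range (PrimeSpectrum.comap (algebraMap Γ(U, B) (Localization.Away g))) := by
        rw [PrimeSpectrum.localization_away_comap_range (Localization.Away g) g]
        exact hg
      exact ⟨z, (congrArg hB.fromSpec hz).trans (hB.fromSpec_primeIdealOf ⟨x, hxB⟩)⟩
    · rw [Category.assoc, ← hA.SpecMap_appLE_fromSpec h hB hBA]
      simp only [m, c, e, ← Spec.map_comp_assoc]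
      congr 2
      ext r
      exact ((φ.commutes r).trans (IsScalarTower.algebraMap_apply Γ(T, A) Γ(U, B) (Localization.Away g) r)).symm
  choose D j hj hx hl using H
  let 𝒰 : U.OpenCover := Scheme.Cover.mkOfCovers U D j (fun x => ⟨x, hx x⟩) hj
  exact (IsZariskiLocalAtSource.iff_of_openCover (P := @LocallyOfFinitePresentation) 𝒰).2 hl

end Groth.Agent.SchDenseFlatLib
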